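import Groth.Agent.Curves.K329.Pt
import Groth.Agent.Curves.K40.ProdSurf

/-!
# Rigidity of maps of a product of curves to projective space

`rigid` is task C (`Rigid`) of the plan `K329.Plan510` for S16510.
-/

set_option autoImplicit false
universe u

open CategoryTheory CategoryTheory.Limits AlgebraicGeometry TopologicalSpace IsLocalRing

namespace K458.Rigid

open Groth.Agent K40.ProdSurf

local notation "Sp" k:max => Spec (CommRingCat.of k)

/-- the `k`-algebra structure of a stalk (as in the plan) -/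
noncomputable def sig {k : Type u} [Field k] {X : Scheme.{u}} (g : X ⟶ Sp k) (x : X) : k →+* X.presheaf.stalk x :=
  (Spec.preimage (X.fromSpecStalk x ≫ g) : CommRingCat.of k ⟶ X.presheaf.stalk x).hom

/-- `φ` (a tuple in `O_x`) are homogeneous coordinates of the rational map `g : V ⇢ P^N`, `i : V ⟶ S`, near `x`
(as in the plan). -/
def IsCoord (k : Type u) [Field k] {S V : Scheme.{u}} (s : S ⟶ Sp k) (i : V ⟶ S) {N : ℕ}
    (g : V ⟶ CohB1.ProjSpace N k) (x : S) (φ : Fin (N + 1) → S.presheaf.stalk x) : Prop :=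
  ∀ (L : Type u) [Field L] [Algebra k L] (m : Sp L ⟶ V) (_ : m ≫ i ≫ s = Spec.map (CommRingCat.ofHom (algebraMap k L)))
    (ψ : S.presheaf.stalk x →+* L) (_ : Spec.map (CommRingCat.ofHom ψ) ≫ S.fromSpecStalk x = m ≫ i),
    ∃ (j : Fin (N + 1)) (hj : IsUnit (ψ (φ j))), m ≫ g = K329.Pt.pt k (fun l => ψ (φ l)) j hj

/-- A rational function regular at all points is a global section. -/
theorem exists_glue {X : Scheme.{u}} [IsIntegral X] (u : X.presheaf.stalk (genericPoint X))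
    (h : ∀ y : X, ∃ f : X.presheaf.stalk y, X.presheaf.stalkSpecializes (genericPoint_specializes y) f = u) :
    ∃ s : Γ(X, ⊤), X.presheaf.germ ⊤ (genericPoint X) trivial s = u := by
  have h1 : ∀ y : X, ∃ (V : X.Opens) (_ : y ∈ V) (hη : genericPoint X ∈ V) (s : Γ(X, V)),
      X.presheaf.germ V (genericPoint X) hη s = u := by
    intro y
    obtain ⟨f, hf⟩ := h y
    obtain ⟨V, hyV, s, hs⟩ := X.presheaf.exists_germ_eq f
    refine ⟨V, hyV, (genericPoint_specializes y).mem_open V.isOpen hyV, s, ?_⟩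
    rw [← hf, ← hs]
    exact (TopCat.Presheaf.germ_stalkSpecializes_apply _ _ _ _).symm
  choose V hV hη s hs using h1
  obtain ⟨t, ht, -⟩ := X.sheaf.existsUnique_gluing' V ⊤ (fun y => homOfLE le_top)
    (fun y _ => Opens.mem_iSup.2 ⟨y, hV y⟩) s (by
      intro y z
      refine germ_injective_of_isIntegral X (genericPoint X) (U := V y ⊓ V z) ⟨hη y, hη z⟩ ?_
      exact (TopCat.Presheaf.germ_res_apply _ _ _ _ _).trans
        ((hs y).trans ((hs z).symm.trans (TopCat.Presheaf.germ_res_apply _ _ _ _ _).symm)))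
  refine ⟨t, ?_⟩
  have h2 := hs (genericPoint X)
  rw [← ht (genericPoint X)] at h2
  exact (TopCat.Presheaf.germ_res_apply _ _ _ _ _).symm.trans h2

/-- Global functions on an integral scheme proper over an algebraically closed field are constant. -/
theorem exists_const {k : Type u} [Field k] [IsAlgClosed k] {P : Scheme.{u}} (p : P ⟶ Sp k) [IsIntegral P]
    [IsProper p] (s : Γ(P, ⊤)) : ∃ b : k, ((Scheme.ΓSpecIso (CommRingCat.of k)).inv ≫ p.appTop).hom b = s := by
  let F := (Scheme.ΓSpecIso (CommRingCat.of k)).inv ≫ p.appTop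
  have hF : F.hom.IsIntegral := by
    apply RingHom.isIntegral_respectsIso.2 (e := (Scheme.ΓSpecIso _).symm.commRingCatIsoToRingEquiv)
    exact isIntegral_appTop_of_universallyClosed p
  algebraize [F.hom]
  exact (IsAlgClosed.algebraMap_bijective_of_isIntegral (k := k) (K := Γ(P, ⊤))).2 s

/-- The structure homomorphism of a stalk and the constant global sections. -/
theorem sig_eq {k : Type u} [Field k] {X : Scheme.{u}} (g : X ⟶ Sp k) (x : X) (b : k) :
    sig g x b = X.presheaf.germ ⊤ x trivial (((Scheme.ΓSpecIso (CommRingCat.of k)).inv ≫ g.appTop).hom b) := by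
  have h : (Spec.preimage (X.fromSpecStalk x ≫ g) : CommRingCat.of k ⟶ X.presheaf.stalk x) =
      ((Scheme.ΓSpecIso (CommRingCat.of k)).inv ≫ g.appTop) ≫ X.presheaf.germ ⊤ x trivial := by
    apply Spec.map_injective
    rw [Spec.map_preimage, Spec.map_comp, Spec.map_comp, ← Scheme.fromSpecStalk_toSpecΓ, Category.assoc,
      ← Category.assoc X.toSpecΓ, ← Scheme.toSpecΓ_naturality, Category.assoc,
      toSpecΓ_SpecMap_ΓSpecIso_inv, Category.comp_id]
  rw [sig, h]
  rfl

/-- The structure homomorphism of a stalk and points. -/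
theorem sig_comp {k : Type u} [Field k] {X : Scheme.{u}} (g : X ⟶ Sp k) (x : X) {L : Type u} [CommRing L] [Algebra k L]
    (ψ : X.presheaf.stalk x →+* L)
    (h : Spec.map (CommRingCat.ofHom ψ) ≫ X.fromSpecStalk x ≫ g = Spec.map (CommRingCat.ofHom (algebraMap k L))) (b : k) :
    ψ (sig g x b) = algebraMap k L b := by
  obtain ⟨Ψ, rfl⟩ : ∃ Ψ : X.presheaf.stalk x ⟶ CommRingCat.of L, Ψ.hom = ψ := ⟨CommRingCat.ofHom ψ, rfl⟩
  have h' : Spec.map Ψ ≫ X.fromSpecStalk x ≫ g = Spec.map (CommRingCat.ofHom (algebraMap k L)) := h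
  have h1 : (Spec.preimage (X.fromSpecStalk x ≫ g) : CommRingCat.of k ⟶ X.presheaf.stalk x) ≫ Ψ =
      CommRingCat.ofHom (algebraMap k L) := by
    apply Spec.map_injective
    rw [Spec.map_comp, Spec.map_preimage, h']
  exact congr($(h1).hom b)

/-- The generic point of `P` as a point of a nonempty open subscheme. -/
theorem exists_gen {P T : Scheme.{u}} [IsIntegral P] (j : T ⟶ P) [IsOpenImmersion j] (t : T) :
    ∃ m : Spec (P.presheaf.stalk (genericPoint P)) ⟶ T,
      m ≫ j = P.fromSpecStalk (genericPoint P) ∧ IsDominant m := by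
  have h1 : ∀ V : T.Opens, (V : Set T).Nonempty → genericPoint P ∈ j ''ᵁ V := by
    rintro V ⟨v, hv⟩
    exact ((genericPoint_spec P).mem_open_set_iff (j ''ᵁ V).isOpen).2 ⟨j v, trivial, ⟨v, hv, rfl⟩⟩
  have h2 : Set.range (P.fromSpecStalk (genericPoint P)) ⊆ Set.range j := by
    rw [Scheme.range_fromSpecStalk]
    intro y hy
    obtain ⟨v, -, hv⟩ := h1 ⊤ ⟨t, trivial⟩
    exact (show y ⤳ genericPoint P from hy).mem_open j.isOpenEmbedding.isOpen_range ⟨v, hv⟩
  have h3 := IsOpenImmersion.lift_fac j (P.fromSpecStalk (genericPoint P)) h2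
  refine ⟨IsOpenImmersion.lift j _ h2, h3, ⟨?_⟩⟩
  rw [DenseRange, dense_iff_inter_open]
  rintro V hV ⟨v, hv⟩
  obtain ⟨w, hw, hw'⟩ := h1 ⟨V, hV⟩ ⟨v, hv⟩
  obtain ⟨z, hz⟩ : ∃ z : ↥(Spec (P.presheaf.stalk (genericPoint P))),
    P.fromSpecStalk (genericPoint P) z = genericPoint P := ⟨closedPoint _, Scheme.fromSpecStalk_closedPoint⟩
  refine ⟨w, hw, z, ?_⟩
  apply j.isOpenEmbedding.injective
  have h4 := congr($(h3) z)
  rw [Scheme.Hom.comp_apply, hz] at h4
  exact h4.trans hw'.symm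

section Fibre

variable {k : Type u} [Field k] [IsAlgClosed k] {C P T' : Scheme.{u}} (a : C ⟶ Sp k) (p : P ⟶ Sp k) [IsIntegral P]
  [IsProper p] (j : T' ⟶ P) [IsOpenImmersion j] (t : Sp k ⟶ T') (ht : t ≫ j ≫ p = 𝟙 _) {N : ℕ}
  (G : pullback a (j ≫ p) ⟶ CohB1.ProjSpace N k) (hG : G ≫ CohB1.ProjSpace.toSpec N k = pullback.fst a (j ≫ p) ≫ a)
  (τ : Sp k ⟶ C) (hτ : τ ≫ a = 𝟙 _) (c : Fin (N + 1) → k)

omit [IsAlgClosed k] [IsIntegral P] [IsProper p] [IsOpenImmersion j] in
theorem hz_map : hz a (j ≫ p) τ hτ ≫ pullback.map a (j ≫ p) a p (𝟙 _) j (𝟙 _) (by simp) (by simp) =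
    j ≫ hz a p τ hτ := by
  have h1 : pullback.map a (j ≫ p) a p (𝟙 _) j (𝟙 _) (by simp) (by simp) ≫ pullback.fst a p =
    pullback.fst a (j ≫ p) ≫ 𝟙 _ := pullback.lift_fst _ _ _
  have h2 : pullback.map a (j ≫ p) a p (𝟙 _) j (𝟙 _) (by simp) (by simp) ≫ pullback.snd a p =
    pullback.snd a (j ≫ p) ≫ j := pullback.lift_snd _ _ _
  generalize pullback.map a (j ≫ p) a p (𝟙 _) j (𝟙 _) (by simp) (by simp) = M at h1 h2 ⊢
  apply pullback.hom_ext
  · rw [Category.assoc, Category.assoc, hz_fst, h1, Category.comp_id, hz_fst, Category.assoc]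
  · rw [Category.assoc, Category.assoc, hz_snd, h2, ← Category.assoc, hz_snd, Category.id_comp, Category.comp_id]

include ht hG in
/-- `G` is constant on the curve `{τ} × T'`. -/
theorem const_fibre (H : ∀ y : P, ∃ φ : Fin (N + 1) → (pullback a p).presheaf.stalk (hz a p τ hτ y),
      ∑ l, sig (pullback.fst a p ≫ a) (hz a p τ hτ y) (c l) * φ l = 1 ∧
      IsCoord k (pullback.fst a p ≫ a) (pullback.map a (j ≫ p) a p (𝟙 _) j (𝟙 _) (by simp) (by simp)) G
        (hz a p τ hτ y) φ) :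
    hz a (j ≫ p) τ hτ ≫ G = (j ≫ p) ≫ t ≫ hz a (j ≫ p) τ hτ ≫ G := by
  obtain ⟨m, hm, hmd⟩ := exists_gen j (t (closedPoint k))
  have : Nonempty T' := ⟨t (closedPoint k)⟩
  have hTi : IsIntegral T' := isIntegral_of_isOpenImmersion j
  let L : Type u := P.functionField
  let _ : Algebra k L := (sig p (genericPoint P)).toAlgebra
  have halg : Spec.map (CommRingCat.ofHom (algebraMap k L)) = P.fromSpecStalk (genericPoint P) ≫ p :=
    Spec.map_preimage (P.fromSpecStalk (genericPoint P) ≫ p)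
  let m' : Sp L ⟶ pullback a (j ≫ p) := m ≫ hz a (j ≫ p) τ hτ
  have hm'1 : m' ≫ pullback.map a (j ≫ p) a p (𝟙 _) j (𝟙 _) (by simp) (by simp) =
      P.fromSpecStalk (genericPoint P) ≫ hz a p τ hτ := by
    change (m ≫ hz a (j ≫ p) τ hτ) ≫ _ = _
    rw [Category.assoc, hz_map, ← Category.assoc, hm]
  have hm'2 : m' ≫ pullback.map a (j ≫ p) a p (𝟙 _) j (𝟙 _) (by simp) (by simp) ≫ pullback.fst a p ≫ a =
      Spec.map (CommRingCat.ofHom (algebraMap k L)) := by
    rw [halg, ← Category.assoc, hm'1, Category.assoc, ← Category.assoc _ _ a, hz_fst, Category.assoc, hτ,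
      Category.comp_id]
  have key : ∀ y : P, ∃ u : Fin (N + 1) → L, (∑ l, algebraMap k L (c l) * u l = 1) ∧
      (∃ (i : Fin (N + 1)) (hi : IsUnit (u i)), m' ≫ G = K329.Pt.pt k u i hi) ∧
      ∀ l, ∃ f : P.presheaf.stalk y, P.presheaf.stalkSpecializes (genericPoint_specializes y) f = u l := by
    intro y
    obtain ⟨φ, hφ1, hφ⟩ := H y
    let ψ : (pullback a p).presheaf.stalk (hz a p τ hτ y) →+* L :=
      (P.presheaf.stalkSpecializes (genericPoint_specializes y)).hom.comp ((hz a p τ hτ).stalkMap y).hom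
    have hψ : Spec.map (CommRingCat.ofHom ψ) ≫ (pullback a p).fromSpecStalk (hz a p τ hτ y) =
        m' ≫ pullback.map a (j ≫ p) a p (𝟙 _) j (𝟙 _) (by simp) (by simp) := by
      rw [hm'1]
      change Spec.map ((hz a p τ hτ).stalkMap y ≫ P.presheaf.stalkSpecializes (genericPoint_specializes y)) ≫ _ = _
      rw [Spec.map_comp, Category.assoc, Scheme.SpecMap_stalkMap_fromSpecStalk, ← Category.assoc,
        Scheme.SpecMap_stalkSpecializes_fromSpecStalk]
    refine ⟨fun l => ψ (φ l), ?_, ?_, fun l => ⟨(hz a p τ hτ).stalkMap y (φ l), rfl⟩⟩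
    · have h1 := congrArg ψ hφ1
      rw [map_sum, map_one] at h1
      rw [← h1]
      refine Finset.sum_congr rfl fun l _ => ?_
      rw [map_mul, sig_comp (pullback.fst a p ≫ a) _ ψ]
      rw [← Category.assoc, hψ, Category.assoc, hm'2]
    · exact hφ L m' hm'2 ψ hψ
  choose u hu1 hu2 hu3 using key
  -- the coordinates do not depend on `y`
  have hind : ∀ y, u y = u (genericPoint P) := by
    intro y
    obtain ⟨i, hi, h1⟩ := hu2 y
    obtain ⟨i', hi', h2⟩ := hu2 (genericPoint P)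
    obtain ⟨v, -, h3⟩ := K329.Pt.exists_smul_of_pt_eq k hi hi' (h1.symm.trans h2)
    have h4 := hu1 (genericPoint P)
    simp only [h3] at h4
    have h5 : v * ∑ l, algebraMap k L (c l) * u y l = 1 := by
      rw [Finset.mul_sum, ← h4]
      exact Finset.sum_congr rfl fun l _ => by ring
    rw [hu1 y, mul_one] at h5
    funext l
    rw [h3, h5, one_mul]
  have hb : ∀ l, ∃ b : k, algebraMap k L b = u (genericPoint P) l := by
    intro l
    obtain ⟨s, hs⟩ := exists_glue (u (genericPoint P) l) fun y => by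
      obtain ⟨f, hf⟩ := hu3 y l
      exact ⟨f, by rw [hf, hind y]⟩
    obtain ⟨b, hb⟩ := exists_const p s
    refine ⟨b, ?_⟩
    rw [← hs, ← hb]
    exact sig_eq p (genericPoint P) b
  choose b hb using hb
  obtain ⟨i, hi, h1⟩ := hu2 (genericPoint P)
  have hbi : IsUnit (b i) := by
    rw [isUnit_iff_ne_zero]
    rintro h0
    rw [← hb i, h0, map_zero] at hi
    exact not_isUnit_zero hi
  have h2 : m' ≫ G = Spec.map (CommRingCat.ofHom (algebraMap k L)) ≫ K329.Pt.pt k b i hbi := by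
    rw [h1]
    exact (K329.Pt.map_pt' k (Algebra.ofId k L) b i hbi (u (genericPoint P)) hb i hi).symm
  have h3 : hz a (j ≫ p) τ hτ ≫ G = (j ≫ p) ≫ K329.Pt.pt k b i hbi := by
    have hs : IsSeparated (CohB1.ProjSpace.toSpec N k) := by
      have : IsProper (CohB1.ProjSpace.toSpec N k) := Groth.Agent.VarietyB.ProjSpaceProper.isProper_toSpec N k
      infer_instance
    refine ext_of_isDominant_of_isSeparated (CohB1.ProjSpace.toSpec N k) ?_ m ?_
    · rw [Category.assoc, hG, ← Category.assoc, hz_fst, Category.assoc, hτ, Category.comp_id, Category.assoc,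
        K329.Pt.pt_toSpec]
      change _ = _ ≫ Spec.map (𝟙 _)
      rw [Spec.map_id, Category.comp_id]
    · rw [← Category.assoc, ← Category.assoc, ← Category.assoc, hm, ← halg]
      exact h2
  rw [h3, ← Category.assoc t, ht, Category.id_comp]

end Fibre

/-- Task C of the plan for S16510 (`K329.Plan510.Rigid`). -/
theorem rigid (k : Type u) [Field k] [IsAlgClosed k] :
    ∀ (C P T' : Scheme.{u}) (a : C ⟶ Sp k) (p : P ⟶ Sp k) [IsIntegral C] [IsIntegral P] [Smooth a] [Smooth p]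
    [IsProper a] [IsProper p] (_ : topologicalKrullDim C = 1) (_ : topologicalKrullDim P = 1)
    (j : T' ⟶ P) [IsOpenImmersion j] (t : Sp k ⟶ T') (ht : t ≫ j ≫ p = 𝟙 _) (N : ℕ)
    (G : pullback a (j ≫ p) ⟶ CohB1.ProjSpace N k) (_ : G ≫ CohB1.ProjSpace.toSpec N k = pullback.fst a (j ≫ p) ≫ a)
    (U : C.Opens) (_ : (U : Set C).Nonempty) (c : Fin (N + 1) → k)
    (_ : ∀ x : ↥(pullback a p), (pullback.fst a p) x ∈ U → ∃ φ : Fin (N + 1) → (pullback a p).presheaf.stalk x,
      ∑ l, sig (pullback.fst a p ≫ a) x (c l) * φ l = 1 ∧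
      IsCoord k (pullback.fst a p ≫ a) (pullback.map a (j ≫ p) a p (𝟙 _) j (𝟙 _) (by simp) (by simp)) G x φ),
    G = pullback.fst a (j ≫ p) ≫ pullback.lift (𝟙 C) (a ≫ t) (by simp [ht]) ≫ G := by
  intro C P T' a p _ _ _ _ _ _ _ _ j _ t ht N G hG U hU c H
  have : Nonempty T' := ⟨t (closedPoint k)⟩
  have hTi : IsIntegral T' := isIntegral_of_isOpenImmersion j
  have hint : IsIntegral (pullback a (j ≫ p)) := isIntegral_prod a (j ≫ p)
  have hprop : IsProper (CohB1.ProjSpace.toSpec N k) := Groth.Agent.VarietyB.ProjSpaceProper.isProper_toSpec N k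
  have hlft : LocallyOfFiniteType (G ≫ CohB1.ProjSpace.toSpec N k) := by
    rw [hG]
    infer_instance
  let σ : C ⟶ pullback a (j ≫ p) := pullback.lift (𝟙 C) (a ≫ t) (by simp [ht])
  have hσ1 : σ ≫ pullback.fst a (j ≫ p) = 𝟙 C := pullback.lift_fst _ _ _
  have hσ2 : σ ≫ pullback.snd a (j ≫ p) = a ≫ t := pullback.lift_snd _ _ _
  change G = pullback.fst a (j ≫ p) ≫ σ ≫ G
  refine ext_of_apply_eq (CohB1.ProjSpace.toSpec N k) (X := pullback a (j ≫ p))
    ((pullback.fst a (j ≫ p)) ⁻¹ᵁ U : (pullback a (j ≫ p)).Opens) ((pullback.fst a (j ≫ p)) ⁻¹ᵁ U).isOpen.isLocallyClosed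
    ?_ ?_ ?_
  · refine ((pullback.fst a (j ≫ p)) ⁻¹ᵁ U).isOpen.dense ?_
    obtain ⟨u, hu⟩ := hU
    refine ⟨σ u, ?_⟩
    change pullback.fst a (j ≫ p) (σ u) ∈ U
    have h1 := congr($(hσ1) u)
    rw [Scheme.Hom.comp_apply] at h1
    rw [h1]
    exact hu
  · intro x hx hxc
    obtain ⟨ξ, z, hξ, hξx⟩ : ∃ (ξ : Sp k ⟶ pullback a (j ≫ p)) (z : ↥(Sp k)),
        ξ ≫ pullback.fst a (j ≫ p) ≫ a = 𝟙 _ ∧ ξ z = x :=
      ⟨pointOfClosedPoint (pullback.fst a (j ≫ p) ≫ a) x hxc, closedPoint k, pointOfClosedPoint_comp _ _ _,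
        pointOfClosedPoint_apply _ _ _ _⟩
    obtain ⟨τ, hτ'⟩ : ∃ τ : Sp k ⟶ C, ξ ≫ pullback.fst a (j ≫ p) = τ := ⟨_, rfl⟩
    have hτ : τ ≫ a = 𝟙 _ := by rw [← hτ', Category.assoc]; exact hξ
    obtain ⟨s, hs'⟩ : ∃ s : Sp k ⟶ T', ξ ≫ pullback.snd a (j ≫ p) = s := ⟨_, rfl⟩
    have hs : s ≫ (j ≫ p) = 𝟙 _ := by
      rw [← hs', Category.assoc, ← pullback.condition]; exact hξ
    have h1 : s ≫ hz a (j ≫ p) τ hτ = ξ := by
      apply pullback.hom_ext
      · rw [Category.assoc, hz_fst, ← Category.assoc, hs, Category.id_comp, hτ']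
      · rw [Category.assoc, hz_snd, Category.comp_id, hs']
    have h2 : τ ≫ σ = t ≫ hz a (j ≫ p) τ hτ := by
      apply pullback.hom_ext
      · rw [Category.assoc, Category.assoc, hz_fst, hσ1, ← Category.assoc t, ht, Category.comp_id, Category.id_comp]
      · rw [Category.assoc, Category.assoc, hz_snd, hσ2, ← Category.assoc τ, hτ, Category.comp_id, Category.id_comp]
    have h3 := const_fibre a p j t ht G hG τ hτ c fun y => H _ (by
      rw [fst_hz, show (closedPoint k : ↥(Sp k)) = z from Subsingleton.elim _ _, ← hτ', Scheme.Hom.comp_apply, hξx]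
      exact hx)
    have h5 : ξ ≫ G = ξ ≫ pullback.fst a (j ≫ p) ≫ σ ≫ G := by
      calc ξ ≫ G = s ≫ hz a (j ≫ p) τ hτ ≫ G := by rw [← Category.assoc, h1]
        _ = s ≫ (j ≫ p) ≫ t ≫ hz a (j ≫ p) τ hτ ≫ G := by rw [← h3]
        _ = t ≫ hz a (j ≫ p) τ hτ ≫ G := by rw [← Category.assoc s, hs, Category.id_comp]
        _ = τ ≫ σ ≫ G := by rw [← Category.assoc, ← h2, Category.assoc]
        _ = ξ ≫ pullback.fst a (j ≫ p) ≫ σ ≫ G := by rw [← hτ', Category.assoc]
    have h6 := congr($(h5) z)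
    rw [Scheme.Hom.comp_apply, Scheme.Hom.comp_apply, hξx] at h6
    exact h6
  · rw [Category.assoc, Category.assoc, hG, ← Category.assoc σ, hσ1, Category.id_comp]

end K458.Rigid
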